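import Cfsg.Agent.H505.Fac.J2

/-!
# `NoFac T` for `J₂`, `HS`, `He`, `McL`, `Co₂`, `Co₃` and the Tits group (helper505, task 3153, for S3679)
-/

set_option autoImplicit false

namespace Cfsg.Agent.H505.Fac

open Cfsg Cfsg.Agent.H899.CG Cfsg.Agent.H537.Cop

/-- **The rows of FAC-SPOR-2.** -/
theorem noFac_spor2 (hk : Known.{0}) {T : Type} [Group T]
    (h : Spor.IsoJ2 T ∨ Spor.IsoHS T ∨ Spor.IsoHe T ∨ Spor.IsoMcL T ∨ Spor.IsoCo2 T ∨ Spor.IsoCo3 T ∨ Lie.IsoTits T) :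
    NoFac T := by
  rcases h with h | h | h | h | h | h | h
  · exact noFac_j2 hk h
  · exact noFac_hs hk h
  · exact noFac_he hk h
  · exact noFac_mcl hk h
  · exact noFac_co2 hk h
  · exact noFac_co3 hk h
  · exact noFac_tits hk h

end Cfsg.Agent.H505.Fac
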