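import Cfsg.Agent.Lib.NormalAbelian

/-!
# Commuting elements of order 5 inverted independently (helper505, for S3679)

`exists_125` : `x`, `x'` commuting elements of order 5, `x' ∉ ⟨x⟩`, `t` inverts `x` and centralizes `x'`, `125 ∣ |T|`.
Then `125` divides `|C(x)|` or `|C(x')|`.
-/

set_option autoImplicit false

namespace Cfsg.Agent.H505.Fac

open Subgroup

section

variable {T : Type*} [Group T]

theorem card_cent_conj (g x : T) : Nat.card (centralizer ({g * x * g⁻¹} : Set T)) = Nat.card (centralizer ({x} : Set T)) := by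
  have h : centralizer ({g * x * g⁻¹} : Set T) = (centralizer ({x} : Set T)).map (MulAut.conj g).toMonoidHom := by
    ext y
    rw [mem_centralizer_singleton_iff, mem_map]
    constructor
    · intro h
      refine ⟨g⁻¹ * y * g, ?_, ?_⟩
      · rw [mem_centralizer_singleton_iff]
        calc g⁻¹ * y * g * x = g⁻¹ * (y * (g * x * g⁻¹)) * g := by group
          _ = g⁻¹ * (g * x * g⁻¹ * y) * g := by rw [h]
          _ = x * (g⁻¹ * y * g) := by group
      · show g * (g⁻¹ * y * g) * g⁻¹ = y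
        group
    · rintro ⟨z, hz, rfl⟩
      rw [mem_centralizer_singleton_iff] at hz
      show g * z * g⁻¹ * (g * x * g⁻¹) = g * x * g⁻¹ * (g * z * g⁻¹)
      calc g * z * g⁻¹ * (g * x * g⁻¹) = g * (z * x) * g⁻¹ := by group
        _ = g * (x * z) * g⁻¹ := by rw [hz]
        _ = _ := by group
  rw [h, card_map_of_injective (MulAut.conj g).injective]

theorem zpow_mod {x : T} (hx : x ^ 5 = 1) {i j : ℤ} (h : (5 : ℤ) ∣ i - j) : x ^ i = x ^ j := by
  obtain ⟨k, hk⟩ := h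
  have : i = j + 5 * k := by omega
  rw [this, zpow_add, zpow_mul, show (x ^ (5 : ℤ)) = x ^ 5 from by norm_cast, hx, one_zpow, mul_one]

/-- an inverse modulo 5 -/
theorem exists_inv {i : ℤ} (hi : ¬ (5 : ℤ) ∣ i) (a : ℤ) : ∃ n : ℤ, (5 : ℤ) ∣ i * n - a := by
  have h0 : i % 5 = 1 ∨ i % 5 = 2 ∨ i % 5 = 3 ∨ i % 5 = 4 := by omega
  rcases h0 with h | h | h | h
  · exact ⟨a, by
      obtain ⟨c, hc⟩ : ∃ c, i = 1 + 5 * c := ⟨i / 5, by omega⟩
      exact ⟨c * a, by rw [hc]; ring⟩⟩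
  · exact ⟨3 * a, by
      obtain ⟨c, hc⟩ : ∃ c, i = 2 + 5 * c := ⟨i / 5, by omega⟩
      exact ⟨3 * c * a + a, by rw [hc]; ring⟩⟩
  · exact ⟨2 * a, by
      obtain ⟨c, hc⟩ : ∃ c, i = 3 + 5 * c := ⟨i / 5, by omega⟩
      exact ⟨2 * c * a + a, by rw [hc]; ring⟩⟩
  · exact ⟨4 * a, by
      obtain ⟨c, hc⟩ : ∃ c, i = 4 + 5 * c := ⟨i / 5, by omega⟩
      exact ⟨4 * c * a + 3 * a, by rw [hc]; ring⟩⟩

theorem card_cent_zpow {x : T} (hx : x ^ 5 = 1) {i : ℤ} (hi : ¬ (5 : ℤ) ∣ i) :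
    Nat.card (centralizer ({x ^ i} : Set T)) = Nat.card (centralizer ({x} : Set T)) := by
  have h : centralizer ({x ^ i} : Set T) = centralizer ({x} : Set T) := by
    ext y
    rw [mem_centralizer_singleton_iff, mem_centralizer_singleton_iff]
    constructor
    · intro h
      obtain ⟨n, hn⟩ := exists_inv hi 1
      have h1 : x = (x ^ i) ^ n := by
        rw [← zpow_mul, zpow_mod hx hn, zpow_one]
      have h2 : Commute y (x ^ i) := h
      have h3 := h2.zpow_right n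
      rw [← h1] at h3
      exact h3
    · intro h
      have h2 : Commute y x := h
      exact h2.zpow_right i
  rw [h]

variable [Finite T]

/-- **Lemma L** -/
theorem exists_125 (h125 : 125 ∣ Nat.card T) {x x' t : T} (hx : orderOf x = 5)
    (hx' : orderOf x' = 5) (hc : x * x' = x' * x) (hn : x' ∉ zpowers x) (ht : t * x * t⁻¹ = x⁻¹)
    (ht' : t * x' * t⁻¹ = x') :
    125 ∣ Nat.card (centralizer ({x} : Set T)) ∨ 125 ∣ Nat.card (centralizer ({x'} : Set T)) := by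
  have h5 : Fact (Nat.Prime 5) := ⟨by norm_num⟩
  have hx5 : x ^ 5 = 1 := by rw [← hx]; exact pow_orderOf_eq_one x
  have hx5' : x' ^ 5 = 1 := by rw [← hx']; exact pow_orderOf_eq_one x'
  have hcc : Commute x x' := hc
  -- the subgroup `P`
  have hcomm : ∀ (a : zpowers x) (b : zpowers x'), Commute (a : T) (b : T) := by
    rintro ⟨a, ha⟩ ⟨b, hb⟩
    obtain ⟨i, rfl⟩ := mem_zpowers_iff.mp ha
    obtain ⟨j, rfl⟩ := mem_zpowers_iff.mp hb
    exact Commute.zpow_zpow hcc i j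
  let φ : zpowers x × zpowers x' →* T :=
    MonoidHom.noncommCoprod (zpowers x).subtype (zpowers x').subtype hcomm
  have hind : ∀ i j : ℤ, x ^ i * x' ^ j = 1 → (5 : ℤ) ∣ i ∧ (5 : ℤ) ∣ j := by
    intro i j hij
    have hj : (5 : ℤ) ∣ j := by
      by_contra hj
      obtain ⟨n, hn1⟩ := exists_inv hj 1
      apply hn
      have e1 : x' ^ j = x ^ (-i) := by
        rw [zpow_neg]
        exact (inv_eq_of_mul_eq_one_right hij).symm
      have e2 : x' = (x' ^ j) ^ n := by rw [← zpow_mul, zpow_mod hx5' hn1, zpow_one]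
      rw [e2, e1, ← zpow_mul]
      exact mem_zpowers_iff.2 ⟨_, rfl⟩
    refine ⟨?_, hj⟩
    have e3 : x' ^ j = 1 := by rw [zpow_mod hx5' (j := 0) (by simpa using hj), zpow_zero]
    rw [e3, mul_one] at hij
    have := orderOf_dvd_iff_zpow_eq_one.2 hij
    rwa [hx] at this
  have hφ : Function.Injective φ := by
    rw [injective_iff_map_eq_one]
    rintro ⟨⟨a, ha⟩, ⟨b, hb⟩⟩ hab
    obtain ⟨i, rfl⟩ := mem_zpowers_iff.mp ha
    obtain ⟨j, rfl⟩ := mem_zpowers_iff.mp hb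
    obtain ⟨h1, h2⟩ := hind i j hab
    have e1 : x ^ i = 1 := by rw [zpow_mod hx5 (j := 0) (by simpa using h1), zpow_zero]
    have e2 : x' ^ j = 1 := by rw [zpow_mod hx5' (j := 0) (by simpa using h2), zpow_zero]
    exact Prod.ext (Subtype.ext e1) (Subtype.ext e2)
  set P : Subgroup T := φ.range with hP
  have hPc : Nat.card P = 5 ^ 2 := by
    rw [hP, ← Nat.card_congr (MonoidHom.ofInjective hφ).toEquiv, Nat.card_prod, Nat.card_zpowers, Nat.card_zpowers,
      hx, hx']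
    norm_num
  have hxP : x ∈ P := ⟨(⟨x, mem_zpowers x⟩, 1), by show x * 1 = x; rw [mul_one]⟩
  obtain ⟨Q, hQ, hPQ⟩ := Sylow.exists_subgroup_card_pow_prime_le 5 (n := 2) (m := 3) (by norm_num; exact h125) P hPc
    (by norm_num)
  have hQp : IsPGroup 5 Q := IsPGroup.of_card hQ
  have hnil : Group.IsNilpotent Q := hQp.isNilpotent
  -- `P` is normal in `Q`
  have hidx : (P.subgroupOf Q).index = 5 := by
    have h1 := (P.subgroupOf Q).card_mul_index
    rw [Nat.card_congr (subgroupOfEquivOfLe hPQ).toEquiv, hPc, hQ] at h1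
    omega
  have hPn : (P.subgroupOf Q).Normal := by
    refine normal_of_index_eq_minFac_card ?_
    rw [hidx, hQ]
    norm_num
  have hPne : P.subgroupOf Q ≠ ⊥ := by
    intro h
    have h1 : Nat.card (P.subgroupOf Q) = 1 := by rw [h, card_bot]
    rw [Nat.card_congr (subgroupOfEquivOfLe hPQ).toEquiv, hPc] at h1
    norm_num at h1
  obtain ⟨v', hv'1, hv'2⟩ : ∃ v' ∈ P.subgroupOf Q ⊓ center Q, v' ≠ 1 := by
    by_contra hcon
    push Not at hcon
    exact Cfsg.Agent.Lib.NormalAbelian.normal_inf_center_ne_bot (P.subgroupOf Q) hPne (eq_bot_iff.2 fun v hv => mem_bot.2 (hcon v hv))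
  obtain ⟨v, hvQ⟩ := v'
  have hvP : v ∈ P := mem_subgroupOf.1 hv'1.1
  have hvc : ∀ g ∈ Q, g * v = v * g := fun g hg =>
    congrArg Subtype.val (mem_center_iff.1 hv'1.2 ⟨g, hg⟩)
  have hv1 : v ≠ 1 := fun h => hv'2 (Subtype.ext h)
  have hv125 : 125 ∣ Nat.card (centralizer ({v} : Set T)) := by
    have : Q ≤ centralizer ({v} : Set T) := fun g hg => mem_centralizer_singleton_iff.2 (hvc g hg)
    have h1 := card_dvd_of_le this
    rwa [hQ] at h1
  obtain ⟨⟨⟨a, ha⟩, ⟨b, hb⟩⟩, hab⟩ := hvP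
  obtain ⟨i, rfl⟩ := mem_zpowers_iff.mp ha
  obtain ⟨j, rfl⟩ := mem_zpowers_iff.mp hb
  have hvij : v = x ^ i * x' ^ j := hab.symm
  have hvx : Commute v x := by
    rw [hvij]
    exact ((Commute.refl x).zpow_left i).mul_left (hcc.symm.zpow_left j)
  have hv5 : v ^ 5 = 1 := by
    rw [hvij, (hcc.zpow_zpow i j).mul_pow, ← zpow_natCast, ← zpow_natCast, ← zpow_mul, ← zpow_mul,
      zpow_mod hx5 (j := 0) (by simp), zpow_mod hx5' (j := 0) (by simp), zpow_zero, zpow_zero, mul_one]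
  by_cases hj : (5 : ℤ) ∣ j
  · left
    have e2 : x' ^ j = 1 := by rw [zpow_mod hx5' (j := 0) (by simpa using hj), zpow_zero]
    rw [e2, mul_one] at hvij
    by_cases hi : (5 : ℤ) ∣ i
    · exfalso
      apply hv1
      rw [hvij, zpow_mod hx5 (j := 0) (by simpa using hi), zpow_zero]
    · rwa [hvij, card_cent_zpow hx5 hi] at hv125
  by_cases hi : (5 : ℤ) ∣ i
  · right
    have e2 : x ^ i = 1 := by rw [zpow_mod hx5 (j := 0) (by simpa using hi), zpow_zero]
    rw [e2, one_mul] at hvij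
    rwa [hvij, card_cent_zpow hx5' hj] at hv125
  left
  by_cases hall : ∀ g ∈ Q, g * x = x * g
  · have : Q ≤ centralizer ({x} : Set T) := fun g hg => mem_centralizer_singleton_iff.2 (hall g hg)
    have h1 := card_dvd_of_le this
    rwa [hQ] at h1
  push Not at hall
  obtain ⟨g, hg, hgx⟩ := hall
  -- the commutator
  have hZ : Nat.card (zpowers (⟨v, hvQ⟩ : Q)) = 5 := by
    rw [Nat.card_zpowers, Subgroup.orderOf_mk]
    exact orderOf_eq_prime hv5 hv1
  have hZn : (zpowers (⟨v, hvQ⟩ : Q)).Normal := by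
    refine ⟨fun n hn k => ?_⟩
    obtain ⟨m, rfl⟩ := mem_zpowers_iff.1 hn
    have h1 : k * (⟨v, hvQ⟩ : Q) ^ m * k⁻¹ = (⟨v, hvQ⟩ : Q) ^ m := by
      have h2 : Commute k (⟨v, hvQ⟩ : Q) := mem_center_iff.1 hv'1.2 k
      rw [(h2.zpow_right m).eq, mul_inv_cancel_right]
    rw [h1]
    exact mem_zpowers_iff.2 ⟨m, rfl⟩
  have hquot : Nat.card (Q ⧸ zpowers (⟨v, hvQ⟩ : Q)) = 5 ^ 2 := by
    have h1 := (zpowers (⟨v, hvQ⟩ : Q)).card_mul_index
    rw [hZ, hQ] at h1
    rw [← Subgroup.index_eq_card]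
    omega
  have hqc : IsMulCommutative (Q ⧸ zpowers (⟨v, hvQ⟩ : Q)) := IsPGroup.isMulCommutative_of_card_eq_prime_sq hquot
  obtain ⟨k, hk⟩ : ∃ k : ℤ, g * x * g⁻¹ = v ^ k * x := by
    have h1 : ((⟨g, hg⟩ * ⟨x, hPQ hxP⟩ * ⟨g, hg⟩⁻¹ * ⟨x, hPQ hxP⟩⁻¹ : Q) : Q ⧸ zpowers (⟨v, hvQ⟩ : Q)) = 1 := by
      rw [QuotientGroup.mk_mul, QuotientGroup.mk_mul, QuotientGroup.mk_mul, QuotientGroup.mk_inv, QuotientGroup.mk_inv,
        hqc.is_comm.comm ((⟨g, hg⟩ : Q) : Q ⧸ zpowers (⟨v, hvQ⟩ : Q)) ((⟨x, hPQ hxP⟩ : Q) : Q ⧸ zpowers (⟨v, hvQ⟩ : Q)),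
        mul_inv_cancel_right, mul_inv_cancel]
    rw [QuotientGroup.eq_one_iff] at h1
    obtain ⟨k, hk⟩ := mem_zpowers_iff.1 h1
    refine ⟨k, ?_⟩
    have h2 : v ^ k = g * x * g⁻¹ * x⁻¹ := congrArg Subtype.val hk
    rw [h2, inv_mul_cancel_right]
  have hk5 : ¬ (5 : ℤ) ∣ k := by
    intro h
    apply hgx
    rw [zpow_mod hv5 (j := 0) (by simpa using h), zpow_zero, one_mul] at hk
    exact mul_inv_eq_iff_eq_mul.1 hk
  have hgv : g * v * g⁻¹ = v := by rw [hvc g hg, mul_inv_cancel_right]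
  have hpow : ∀ m : ℕ, g ^ m * x * (g ^ m)⁻¹ = v ^ (k * m) * x := by
    intro m
    induction m with
    | zero => simp
    | succ m ih =>
      calc g ^ (m + 1) * x * (g ^ (m + 1))⁻¹ = g * (g ^ m * x * (g ^ m)⁻¹) * g⁻¹ := by rw [pow_succ']; group
        _ = g * (v ^ (k * m) * x) * g⁻¹ := by rw [ih]
        _ = (g * v * g⁻¹) ^ (k * m) * (g * x * g⁻¹) := by rw [conj_zpow]; group
        _ = v ^ (k * (m + 1 : ℕ)) * x := by
          rw [hgv, hk, ← mul_assoc, ← zpow_add]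
          congr 2
          push_cast
          ring
  -- the exponent
  obtain ⟨n, hn1⟩ := exists_inv (i := 2 * i) (fun h => by omega) (-1)
  obtain ⟨m, hm⟩ := exists_inv hk5 n
  have hm' : ∃ m : ℕ, (5 : ℤ) ∣ k * m - n := by
    refine ⟨(m % 5).toNat, ?_⟩
    rw [Int.toNat_of_nonneg (by omega)]
    obtain ⟨c, hc⟩ : ∃ c, m = m % 5 + 5 * c := ⟨m / 5, by omega⟩
    obtain ⟨d, hd⟩ := hm
    refine ⟨d - k * c, ?_⟩
    have : k * (m % 5) = k * m - 5 * (k * c) := by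
      conv_rhs => rw [hc]
      ring
    rw [this]
    linarith
  obtain ⟨m, hm⟩ := hm'
  have e1 : Nat.card (centralizer ({v ^ n * x} : Set T)) = Nat.card (centralizer ({x} : Set T)) := by
    rw [← card_cent_conj (g ^ m) x, hpow m, zpow_mod hv5 hm]
  -- the conjugate of `v`
  have hw : t * v * t⁻¹ = x ^ (-i) * x' ^ j := by
    calc t * v * t⁻¹ = (t * x * t⁻¹) ^ i * (t * x' * t⁻¹) ^ j := by rw [conj_zpow, conj_zpow, hvij]; group
      _ = x ^ (-i) * x' ^ j := by rw [ht, ht', inv_zpow, zpow_neg]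
  have hnn : ¬ (5 : ℤ) ∣ n := by
    intro h
    obtain ⟨c, rfl⟩ := h
    obtain ⟨d, hd⟩ := hn1
    have : 5 * (2 * i * c - d) = -1 := by linarith
    omega
  have e2 : v ^ n * x = (t * v * t⁻¹) ^ n := by
    rw [hw, hvij, (hcc.zpow_zpow i j).mul_zpow, (hcc.zpow_zpow (-i) j).mul_zpow, ← zpow_mul, ← zpow_mul, ← zpow_mul]
    calc x ^ (i * n) * x' ^ (j * n) * x = x ^ (i * n) * (x' ^ (j * n) * x) := by group
      _ = x ^ (i * n) * (x * x' ^ (j * n)) := by rw [(hcc.symm.zpow_left (j * n)).eq]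
      _ = x ^ (i * n + 1) * x' ^ (j * n) := by rw [zpow_add, zpow_one, mul_assoc]
      _ = x ^ (-i * n) * x' ^ (j * n) := by
        rw [zpow_mod hx5 (i := i * n + 1) (j := -i * n)]
        obtain ⟨d, hd⟩ := hn1
        exact ⟨d, by linarith⟩
  have hw5 : (t * v * t⁻¹) ^ 5 = 1 := by rw [conj_pow, hv5, mul_one, mul_inv_cancel]
  rw [← e1, e2, card_cent_zpow hw5 hnn, card_cent_conj]
  exact hv125

end

end Cfsg.Agent.H505.Fac
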