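import Cfsg.Agent.H899.Cyc.Fac
import Cfsg.Agent.H537.CopNum

/-!
# Factorizations `T = A B`, `A ≅ S^l`: a numerical criterion (helper505, for S3679)

* `cent_dvd` : an element `x` of prime order `r` of a factor: `r |S|^(l-1)` divides `|C_T(x)|`;
* `mem_of_chk` : the pair `(|S|, l)` belongs to a list of exceptions `ex`;
* `noFac_of_chk` : the case `ex = []`.
-/

set_option autoImplicit false

namespace Cfsg.Agent.H505.Fac

open Subgroup Cfsg Cfsg.Agent.H899.CG Cfsg.Agent.H537.Cop Cfsg.Agent.OrdDiv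

section basic

variable {T : Type*} [Group T] [Finite T] {A B : Subgroup T} {S : Type*} [Group S] [Finite S] {l : ℕ}

/-- the centralizer of an element of a factor in a direct power -/
theorem card_cent_single {n : ℕ} (i : Fin n) (x : S) :
    Nat.card (centralizer ({Pi.mulSingle (M := fun _ => S) i x} : Set (Fin n → S))) =
      Nat.card S ^ (n - 1) * Nat.card (centralizer ({x} : Set S)) := by
  have h1 : centralizer ({Pi.mulSingle (M := fun _ => S) i x} : Set (Fin n → S)) =
      (centralizer ({x} : Set S)).comap (Pi.evalMonoidHom (fun _ : Fin n => S) i) := by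
    ext f
    rw [mem_centralizer_singleton_iff, mem_comap, mem_centralizer_singleton_iff]
    constructor
    · intro h
      have := congrFun h i
      rwa [Pi.mul_apply, Pi.mul_apply, Pi.mulSingle_eq_same] at this
    · intro h
      funext j
      rw [Pi.mul_apply, Pi.mul_apply]
      by_cases hj : j = i
      · subst hj
        rw [Pi.mulSingle_eq_same]
        exact h
      · rw [Pi.mulSingle_eq_of_ne (M := fun _ => S) hj, mul_one, one_mul]
  have h2 : Function.Surjective (Pi.evalMonoidHom (fun _ : Fin n => S) i) := fun s =>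
    ⟨Pi.mulSingle (M := fun _ => S) i s, Pi.mulSingle_eq_same (M := fun _ => S) i s⟩
  have h3 := (centralizer ({x} : Set S)).index_comap_of_surjective h2
  have h4 := (centralizer ({Pi.mulSingle (M := fun _ => S) i x} : Set (Fin n → S))).card_mul_index
  have h5 := (centralizer ({x} : Set S)).card_mul_index
  rw [← h1] at h3
  rw [h3] at h4
  have h6 : Nat.card (Fin n → S) = Nat.card S ^ n := by
    rw [Nat.card_pi]
    simp only [Finset.prod_const, Finset.card_univ, Fintype.card_fin]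
  have hn : n = (n - 1) + 1 := by
    have := i.pos
    omega
  have h8 : Nat.card S ^ n = Nat.card S ^ (n - 1) * Nat.card S := by rw [← pow_succ, ← hn]
  rw [h6, h8] at h4
  have h7 : (centralizer ({x} : Set S)).index ≠ 0 := FiniteIndex.index_ne_zero
  refine Nat.eq_of_mul_eq_mul_right (Nat.pos_of_ne_zero h7) (h4.trans ?_)
  rw [mul_assoc, h5]

omit [Finite T] in
/-- elements of prime order of a factor -/
theorem cent_dvd (h : Fac T A B S l) {r : ℕ} (hr : r.Prime) (hrS : r ∣ Nat.card S) :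
    ∃ x : T, orderOf x = r ∧ r * Nat.card S ^ (l - 1) ∣ Nat.card (centralizer ({x} : Set T)) := by
  have : Fact r.Prime := ⟨hr⟩
  obtain ⟨e⟩ := h.iso
  have h2 := h.two_le
  obtain ⟨s, hs⟩ := exists_prime_orderOf_dvd_card' r hrS
  let i : Fin l := ⟨0, by omega⟩
  let φ : (Fin l → S) →* T := A.subtype.comp e.symm.toMonoidHom
  have hφ : Function.Injective φ := A.subtype_injective.comp e.symm.injective
  refine ⟨φ (Pi.mulSingle i s), ?_, ?_⟩
  · rw [orderOf_injective φ hφ, ← hs]
    exact orderOf_injective (MonoidHom.mulSingle (fun _ : Fin l => S) i)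
      (Pi.mulSingle_injective (M := fun _ => S) i) s
  · have h3 : Nat.card (centralizer ({Pi.mulSingle (M := fun _ => S) i s} : Set (Fin l → S))) ∣
        Nat.card (centralizer ({φ (Pi.mulSingle (M := fun _ => S) i s)} : Set T)) := by
      rw [Nat.card_congr ((centralizer ({Pi.mulSingle (M := fun _ => S) i s} : Set (Fin l → S))).equivMapOfInjective
        φ hφ).toEquiv]
      apply card_dvd_of_le
      rintro _ ⟨y, hy, rfl⟩
      rw [mem_centralizer_singleton_iff, ← map_mul, mem_centralizer_singleton_iff.1 hy, map_mul]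
    refine dvd_trans ?_ h3
    rw [card_cent_single, mul_comm]
    refine Nat.mul_dvd_mul_left _ ?_
    have h4 := orderOf_dvd_natCard (⟨s, mem_centralizer_singleton_iff.2 rfl⟩ : centralizer ({s} : Set S))
    rwa [Subgroup.orderOf_mk, hs] at h4

end basic

/-! ### The criterion -/

/-- the largest exponent -/
def mx (l : List (ℕ × ℕ)) : ℕ := l.foldr (fun x m => max x.2 m) 0

theorem le_mx {l : List (ℕ × ℕ)} {x : ℕ × ℕ} (h : x ∈ l) : x.2 ≤ mx l := by
  induction l with
  | nil => exact absurd h List.not_mem_nil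
  | cons y l ih =>
    show x.2 ≤ max y.2 (mx l)
    rcases List.mem_cons.1 h with rfl | h
    · exact le_max_left _ _
    · exact (ih h).trans (le_max_right _ _)

/-- the pair is killed by a bound for centralizers -/
def killC (cb : List (ℕ × ℕ × ℕ)) (s k : ℕ) : Bool :=
  cb.any fun t => and (Nat.beq (s % t.1) 0) (Nat.beq (t.1 * s ^ (k - 1) % t.2.1 ^ (t.2.2 + 1)) 0)

/-- the pair is killed by the orders of the subgroups -/
def killS (sc : List ℕ) (N : ℕ) (l : List (ℕ × ℕ)) (s k : ℕ) : Bool :=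
  sc.any fun p => and (!Nat.beq (s % p) 0) ((ords p N l).all fun n => !Nat.beq (s ^ k % (N / n)) 0)

def chkF (N : ℕ) (l : List (ℕ × ℕ)) (sc : List ℕ) (cb : List (ℕ × ℕ × ℕ)) (ex : List (ℕ × ℕ)) : Bool :=
  (cands l N).all fun g => (List.range (mx l + 1)).all fun k => or (Nat.ble k 1)
    (or (!Nat.beq (N % ordN g ^ k) 0) (or (killC cb (ordN g) k) (or (killS sc N l (ordN g) k)
      (ex.any fun x => and (Nat.beq x.1 (ordN g)) (Nat.beq x.2 k)))))

theorem mem_of_chk (hk : ∀ (K : Type) [Group K] [Finite K] [IsSimpleGroup K], IsKnownSimple' K)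
    {T : Type} [Group T] [Finite T] {N : ℕ} {l : List (ℕ × ℕ)} {sc : List ℕ} {cb : List (ℕ × ℕ × ℕ)}
    {ex : List (ℕ × ℕ)} (hT : Nat.card T = N) (hv : valid l N = true) (hnd : nd l = true)
    (hsc : ∀ p ∈ sc, p.Prime ∧ SC p T) (hsq : (sc.all fun p => and (Nat.beq (N % p) 0) (!Nat.beq (N % p ^ 2) 0)) = true)
    (hcb : ∀ t ∈ cb, t.1.Prime ∧ CB t.1 t.2.1 t.2.2 T)
    (hchk : chkF N l sc cb ex = true) {S : Type} [Group S] [Finite S] (hS : IsSimpleGroup S)
    (hSn : ¬ IsMulCommutative S) {A B : Subgroup T} {k : ℕ} (hF : Fac T A B S k) : (Nat.card S, k) ∈ ex := by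
  have hcomm : ¬ ∀ a b : S, a * b = b * a := fun h => hSn ⟨⟨h⟩⟩
  have hk2 := hF.two_le
  have hpd : Nat.card S ^ k ∣ N := hT ▸ hF.pow_dvd_card
  have hSN : Nat.card S ∣ N := (dvd_pow_self _ (by omega)).trans hpd
  obtain ⟨g, h1, -, h3⟩ := exists_good table (hk S) hcomm hv hSN
  have hS1 : 1 < Nat.card S := by
    have := hS.toNontrivial
    exact Finite.one_lt_card
  have hkm : k ≤ mx l := by
    obtain ⟨r, hr, hrL⟩ := Nat.exists_prime_and_dvd hS1.ne'
    obtain ⟨j, hj, hkj⟩ := exists_pair hv hr (Nat.one_le_iff_ne_zero.2 (by omega : k ≠ 0))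
      ((pow_dvd_pow_of_dvd hrL k).trans hpd)
    exact hkj.trans (le_mx hj)
  unfold chkF at hchk
  have h4 := List.all_eq_true.1 (List.all_eq_true.1 hchk g h1) k (List.mem_range.2 (by omega))
  rw [← h3, Bool.or_eq_true, Bool.or_eq_true, Bool.or_eq_true, Bool.or_eq_true] at h4
  rcases h4 with h4 | h4 | h4 | h4 | h4
  · have := Nat.le_of_ble_eq_true h4
    omega
  · rw [Nat.mod_eq_zero_of_dvd hpd] at h4
    exact absurd h4 (by decide)
  · -- centralizers
    exfalso
    unfold killC at h4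
    obtain ⟨t, ht, h5⟩ := List.any_eq_true.1 h4
    rw [Bool.and_eq_true] at h5
    obtain ⟨x, hx, hd⟩ := cent_dvd hF (hcb t ht).1 (Nat.dvd_of_mod_eq_zero (Nat.eq_of_beq_eq_true h5.1))
    exact (hcb t ht).2 x hx ((Nat.dvd_of_mod_eq_zero (Nat.eq_of_beq_eq_true h5.2)).trans hd)
  · -- orders
    exfalso
    unfold killS at h4
    obtain ⟨p, hp, h5⟩ := List.any_eq_true.1 h4
    rw [Bool.and_eq_true] at h5
    have hq := List.all_eq_true.1 hsq p hp
    rw [Bool.and_eq_true] at hq
    have hpN : p ∣ N := Nat.dvd_of_mod_eq_zero (Nat.eq_of_beq_eq_true hq.1)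
    have hpp : ¬ p ^ 2 ∣ N := fun h => by
      have h6 := hq.2
      rw [Nat.mod_eq_zero_of_dvd h] at h6
      exact absurd h6 (by decide)
    have hcyc : CycW T p := (cyc_of_sq (hsc p hp).1 (hT ▸ hpN) (by rw [hT]; exact hpp)).1
    have h7 := mem_ords hk (hsc p hp).1 hT hv hnd hpp (hsc p hp).2 hF.ne_top (hF.dvd hcyc)
    have h8 := List.all_eq_true.1 h5.2 _ h7
    rw [← index_eq hT, Nat.mod_eq_zero_of_dvd hF.index_dvd] at h8
    exact absurd h8 (by decide)
  · obtain ⟨x, hx, h5⟩ := List.any_eq_true.1 h4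
    rw [Bool.and_eq_true] at h5
    have h6 := Nat.eq_of_beq_eq_true h5.1
    have h7 := Nat.eq_of_beq_eq_true h5.2
    rw [← h6, ← h7]
    exact hx

theorem noFac_of_chk (hk : ∀ (K : Type) [Group K] [Finite K] [IsSimpleGroup K], IsKnownSimple' K)
    {T : Type} [Group T] [Finite T] {N : ℕ} {l : List (ℕ × ℕ)} {sc : List ℕ} {cb : List (ℕ × ℕ × ℕ)}
    (hT : Nat.card T = N) (hv : valid l N = true) (hnd : nd l = true)
    (hsc : ∀ p ∈ sc, p.Prime ∧ SC p T) (hsq : (sc.all fun p => and (Nat.beq (N % p) 0) (!Nat.beq (N % p ^ 2) 0)) = true)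
    (hcb : ∀ t ∈ cb, t.1.Prime ∧ CB t.1 t.2.1 t.2.2 T) (hchk : chkF N l sc cb [] = true) : NoFac T :=
  fun _ _ _ hS hSn _ _ _ _ hF => absurd (mem_of_chk hk hT hv hnd hsc hsq hcb hchk hS hSn hF) List.not_mem_nil

end Cfsg.Agent.H505.Fac
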