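import Cfsg.Agent.H505.Fac.McL
import Cfsg.Agent.H505.Fac.Five
import Cfsg.Agent.CpAutHSFive.Row
import Cfsg.Agent.S2119
import Cfsg.Agent.S0991

/-!
# `NoFac HS` (helper505, for S3679)

`A₅ × A₅` is not a subgroup of `HS`: `125` divides `|C(x)|` for an element `x` of order 5 of a factor (`exists_125`), so
`|C(x)| = 1500`, the other factor is normal in `C(x)` and commutes with a group of order 25.
-/

set_option autoImplicit false

namespace Cfsg.Agent.H505.Fac

open Subgroup Cfsg Cfsg.Agent.H899.CG Cfsg.Agent.H537.Cop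

theorem card_a5 : Nat.card (alternatingGroup (Fin 5)) = 60 := by
  rw [nat_card_alternatingGroup, Nat.card_eq_fintype_card, Fintype.card_fin]
  rfl

theorem card_aut_a5 : Nat.card (MulAut (alternatingGroup (Fin 5))) = 120 := by
  have h3 := Nat.card_congr (Equiv.ofBijective _ (Cfsg.Agent.S2119.result 5 (by norm_num) (by norm_num)))
  rw [← h3, Nat.card_eq_fintype_card, Fintype.card_perm, Fintype.card_fin]
  decide

theorem simple_a5 : IsSimpleGroup (alternatingGroup (Fin 5)) := alternatingGroup.isSimpleGroup_five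

theorem not_comm_a5 : ¬ IsMulCommutative (alternatingGroup (Fin 5)) := by
  intro h
  exact absurd (h.is_comm.comm c2 c5) (by decide +kernel)

/-- a subgroup of index at most four of `A₅` -/
theorem eq_top_of_index {H : Subgroup (alternatingGroup (Fin 5))} (h : H.index ≤ 4) : H = ⊤ := by
  by_contra hne
  have := simple_a5
  obtain ⟨f, hf⟩ := Cfsg.Agent.S0991.result (G := alternatingGroup (Fin 5)) not_comm_a5 H hne
  have h1 := Subgroup.card_dvd_of_injective f hf
  rw [card_a5] at h1
  have h0 : H.index ≠ 0 := FiniteIndex.index_ne_zero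
  have h2 : Nat.card (alternatingGroup (Fin H.index)) ∣ Nat.card (Equiv.Perm (Fin H.index)) :=
    card_subgroup_dvd_card _
  have h3 := h1.trans h2
  rw [Nat.card_eq_fintype_card, Fintype.card_perm, Fintype.card_fin] at h3
  have h4 : H.index.factorial ∣ 24 := Nat.factorial_dvd_factorial (n := 4) h
  have h5 := h3.trans h4
  norm_num at h5

/-- homomorphisms from `A₅` to abelian groups are trivial -/
theorem hom_trivial {Z : Type*} [CommGroup Z] (f : alternatingGroup (Fin 5) →* Z) (g : alternatingGroup (Fin 5)) :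
    f g = 1 := by
  have := simple_a5
  rcases (inferInstance : f.ker.Normal).eq_bot_or_eq_top with h | h
  · exfalso
    apply not_comm_a5
    refine ⟨⟨fun a b => (MonoidHom.ker_eq_bot_iff f).1 h ?_⟩⟩
    rw [map_mul, map_mul, mul_comm]
  · have : g ∈ f.ker := by rw [h]; trivial
    exact this

/-- the key step: the centralizer of an element of order 5 of a factor -/
theorem dvd_cent_c2 {T : Type*} [Group T] [Finite T]
    (φ : alternatingGroup (Fin 5) × alternatingGroup (Fin 5) →* T) (hφ : Function.Injective φ)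
    (h1500 : Nat.card (centralizer ({φ (c5, 1)} : Set T)) ∣ 1500)
    (h125 : 125 ∣ Nat.card (centralizer ({φ (c5, 1)} : Set T))) :
    25 ∣ Nat.card (centralizer ({φ (1, c2)} : Set T)) := by
  classical
  set C : Subgroup T := centralizer ({φ (c5, 1)} : Set T) with hC
  have hmem : ∀ (a : zpowers c5) (g : alternatingGroup (Fin 5)), φ ((a : alternatingGroup (Fin 5)), g) ∈ C := by
    rintro ⟨a, ha⟩ g
    obtain ⟨i, rfl⟩ := mem_zpowers_iff.1 ha
    rw [hC, mem_centralizer_singleton_iff, ← map_mul, ← map_mul]
    refine congrArg φ (Prod.ext ?_ ((mul_one g).trans (one_mul g).symm))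
    exact ((Commute.refl c5).zpow_left i).eq
  let ι : zpowers c5 × alternatingGroup (Fin 5) →* alternatingGroup (Fin 5) × alternatingGroup (Fin 5) :=
    MonoidHom.prodMap (zpowers c5).subtype (MonoidHom.id _)
  have hι : Function.Injective ι := by
    rintro ⟨a, g⟩ ⟨b, h⟩ hab
    have h1 : (a : alternatingGroup (Fin 5)) = b := congrArg Prod.fst hab
    have h2 : g = h := congrArg Prod.snd hab
    exact Prod.ext (Subtype.ext h1) h2
  let θ : zpowers c5 × alternatingGroup (Fin 5) →* C := (φ.comp ι).codRestrict C fun x => hmem x.1 x.2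
  have hθ : Function.Injective θ := fun x y hxy => hι (hφ (congrArg Subtype.val hxy))
  let ψ : alternatingGroup (Fin 5) →* C := θ.comp (MonoidHom.inr _ _)
  have hψ : Function.Injective ψ := fun x y hxy => congrArg Prod.snd (hθ hxy)
  -- the index of `H`
  have hH : Nat.card θ.range = 300 := by
    rw [← Nat.card_congr (MonoidHom.ofInjective hθ).toEquiv, Nat.card_prod, Nat.card_zpowers, orderOf_c5, card_a5]
  have hidx : θ.range.index ≤ 5 := by
    have h1 := θ.range.card_mul_index
    rw [hH] at h1
    have h2 : 300 * θ.range.index ≤ 1500 := by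
      rw [h1]
      exact Nat.le_of_dvd (by norm_num) h1500
    omega
  -- the second factor acts trivially on the cosets
  have htriv : ∀ (c : C) (g : alternatingGroup (Fin 5)), c⁻¹ * ψ g * c ∈ θ.range := by
    intro c g
    by_cases hc : c ∈ θ.range
    · exact mul_mem (mul_mem (inv_mem hc) ⟨(1, g), rfl⟩) hc
    -- the stabilizer
    let K : Subgroup (alternatingGroup (Fin 5)) := (θ.range.map (MulAut.conj c).toMonoidHom).comap ψ
    have hK : K.index ≤ 4 := by
      -- the cosets
      let F : alternatingGroup (Fin 5) ⧸ K → {q : C ⧸ θ.range // q ≠ ((1 : C) : C ⧸ θ.range)} := fun q =>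
        Quotient.liftOn' q (fun a => ⟨((ψ a * c : C) : C ⧸ θ.range), fun h => hc (by
          have h1 : ψ a * c ∈ θ.range := by
            have := QuotientGroup.eq.1 h.symm
            rwa [inv_one, one_mul] at this
          have h2 := mul_mem (inv_mem (show ψ a ∈ θ.range from ⟨(1, a), rfl⟩)) h1
          rwa [inv_mul_cancel_left] at h2)⟩) (by
          intro a b hab
          have h1 : a⁻¹ * b ∈ K := QuotientGroup.leftRel_apply.1 hab
          obtain ⟨z, hz, hz'⟩ := h1
          apply Subtype.ext
          apply QuotientGroup.eq.2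
          have h2 : c * z * c⁻¹ = ψ (a⁻¹ * b) := hz'
          have h3 : (ψ a * c)⁻¹ * (ψ b * c) = z := by
            calc (ψ a * c)⁻¹ * (ψ b * c) = c⁻¹ * ψ (a⁻¹ * b) * c := by rw [map_mul, map_inv]; group
              _ = z := by rw [← h2]; group
          rw [h3]
          exact hz)
      have hF : Function.Injective F := by
        intro p q
        induction p using QuotientGroup.induction_on with
        | H a =>
          induction q using QuotientGroup.induction_on with
          | H b =>
            intro hab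
            have h1 : ((ψ a * c : C) : C ⧸ θ.range) = ((ψ b * c : C) : C ⧸ θ.range) := congrArg Subtype.val hab
            have h2 := QuotientGroup.eq.1 h1
            apply QuotientGroup.eq.2
            refine ⟨(ψ a * c)⁻¹ * (ψ b * c), h2, ?_⟩
            show c * ((ψ a * c)⁻¹ * (ψ b * c)) * c⁻¹ = ψ (a⁻¹ * b)
            rw [map_mul, map_inv]
            group
      have h1 := Nat.card_le_card_of_injective F hF
      have h2 : Nat.card {q : C ⧸ θ.range // q ≠ ((1 : C) : C ⧸ θ.range)} + 1 = θ.range.index := by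
        rw [Subgroup.index_eq_card]
        have h3 := Nat.card_congr (Equiv.Set.sumCompl ({((1 : C) : C ⧸ θ.range)} : Set (C ⧸ θ.range)))
        rw [Nat.card_sum] at h3
        rw [← h3, add_comm]
        congr 1
        exact (Nat.card_unique).symm
      rw [Subgroup.index_eq_card]
      omega
    have h1 : g ∈ K := by rw [eq_top_of_index hK]; trivial
    obtain ⟨z, hz, hz'⟩ := h1
    have h2 : c * z * c⁻¹ = ψ g := hz'
    have h3 : c⁻¹ * ψ g * c = z := by rw [← h2]; group
    rw [h3]
    exact hz
  -- the second factor is normal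
  have hnorm : ψ.range.Normal := by
    refine ⟨?_⟩
    rintro _ ⟨g, rfl⟩ c
    let e := MonoidHom.ofInjective hθ
    let κ : alternatingGroup (Fin 5) →* zpowers c5 :=
      (MonoidHom.fst _ _).comp (e.symm.toMonoidHom.comp (((MulAut.conj c).toMonoidHom.comp ψ).codRestrict θ.range
        fun g => by
          have := htriv c⁻¹ g
          rwa [inv_inv] at this))
    have hκ : κ g = 1 := by
      let _ : CommGroup (zpowers c5) := { (inferInstance : Group (zpowers c5)) with
        mul_comm := fun a b => by
          obtain ⟨i, hi⟩ := mem_zpowers_iff.1 a.2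
          obtain ⟨j, hj⟩ := mem_zpowers_iff.1 b.2
          apply Subtype.ext
          show (a : alternatingGroup (Fin 5)) * b = b * a
          rw [← hi, ← hj]
          exact (zpow_mul_comm c5 i j) }
      exact hom_trivial (Z := zpowers c5) κ g
    obtain ⟨⟨a, b⟩, hab⟩ : c * ψ g * c⁻¹ ∈ θ.range := by
      have := htriv c⁻¹ g
      rwa [inv_inv] at this
    have h1 : e.symm ⟨c * ψ g * c⁻¹, ⟨(a, b), hab⟩⟩ = (a, b) := by
      rw [MulEquiv.symm_apply_eq]
      exact Subtype.ext hab.symm
    have h2 : a = 1 := by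
      have : κ g = (e.symm ⟨c * ψ g * c⁻¹, ⟨(a, b), hab⟩⟩).1 := rfl
      rw [hκ, h1] at this
      exact this.symm
    refine ⟨b, ?_⟩
    rw [← hab, h2]
    rfl
  -- the action on the second factor
  let e := MonoidHom.ofInjective hψ
  have hcardA : Nat.card (MulAut ψ.range) = 120 := by
    rw [← card_aut_a5]
    exact Nat.card_congr (MulAut.congr e.symm).toEquiv
  let f : C →* MulAut ψ.range := MulAut.conjNormal
  have hk1 := f.ker.card_mul_index
  have hk2 : f.ker.index ∣ 120 := by
    rw [Subgroup.index_ker, ← hcardA]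
    exact card_subgroup_dvd_card _
  have hk3 : 25 ∣ Nat.card f.ker := by
    have h3 : 125 ∣ Nat.card f.ker * f.ker.index := hk1 ▸ h125
    have h4 : 125 ∣ Nat.card f.ker * 120 := h3.trans (Nat.mul_dvd_mul_left _ hk2)
    have h5 : 5 * 25 ∣ 5 * (Nat.card f.ker * 24) := by
      have : 5 * (Nat.card f.ker * 24) = Nat.card f.ker * 120 := by ring
      rw [this]
      exact h4
    have h6 := Nat.dvd_of_mul_dvd_mul_left (by norm_num) h5
    exact (Nat.Coprime.dvd_of_dvd_mul_right (by norm_num) h6)
  have hk4 : Nat.card (f.ker.map C.subtype) = Nat.card f.ker := card_map_of_injective C.subtype_injective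
  rw [← hk4] at hk3
  refine hk3.trans (card_dvd_of_le ?_)
  rintro _ ⟨c, hc, rfl⟩
  have h1 : f c = 1 := hc
  have h2 := congrArg (fun z : MulAut ψ.range => ((z ⟨ψ c2, ⟨c2, rfl⟩⟩ : ψ.range) : C)) h1
  simp only [f, MulAut.conjNormal_apply, MulAut.one_apply] at h2
  have h3 : c * ψ c2 = ψ c2 * c := by
    rw [mul_inv_eq_iff_eq_mul] at h2
    exact h2
  rw [mem_centralizer_singleton_iff]
  exact congrArg Subtype.val h3

theorem not_hs_aux (φ : alternatingGroup (Fin 5) × alternatingGroup (Fin 5) →* Spor.HS) (hφ : Function.Injective φ)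
    (h125 : 125 ∣ Nat.card (centralizer ({φ (c5, 1)} : Set Spor.HS))) : False := by
  have := Cfsg.Agent.H647.SpF.HS.finite
  have hx : orderOf (φ (c5, 1)) = 5 := by
    have : Fact (Nat.Prime 5) := ⟨by norm_num⟩
    rw [orderOf_injective φ hφ]
    exact orderOf_eq_prime (Prod.ext c5_pow (one_pow 5)) fun h => c5_ne (congrArg Prod.fst h)
  have ht : orderOf (φ (1, c2)) = 2 := by
    have : Fact (Nat.Prime 2) := ⟨by norm_num⟩
    rw [orderOf_injective φ hφ]
    exact orderOf_eq_prime (by rw [pow_two]; exact Prod.ext (one_mul 1) c2_mul) fun h => c2_ne (congrArg Prod.snd h)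
  have h1 := Cfsg.Agent.H647.SpF.HS.five hx
  have h2 := Cfsg.Agent.CpAutHSFive.not_eight (L := Spor.HS) ⟨MulEquiv.refl _⟩ hx
  have h3 : Nat.card (centralizer ({φ (c5, 1)} : Set Spor.HS)) ∣ 1500 := by
    have key : ∀ n ∈ Nat.divisors (2 ^ 5 * 3 * 5 ^ 3), ¬ 8 ∣ n → n ∣ 1500 := by decide +kernel
    exact key _ (Nat.mem_divisors.2 ⟨h1, by norm_num⟩) h2
  exact Cfsg.Agent.H647.SpF.HS.cb_two_five _ ht (dvd_cent_c2 φ hφ h3 h125)

theorem not_hs (φ : alternatingGroup (Fin 5) × alternatingGroup (Fin 5) →* Spor.HS) (hφ : Function.Injective φ) :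
    False := by
  have := Cfsg.Agent.H647.SpF.HS.finite
  have h5 : Fact (Nat.Prime 5) := ⟨by norm_num⟩
  have hx : orderOf (φ (c5, 1)) = 5 := by
    rw [orderOf_injective φ hφ]
    exact orderOf_eq_prime (Prod.ext c5_pow (one_pow 5)) fun h => c5_ne (congrArg Prod.fst h)
  have hx' : orderOf (φ (1, c5)) = 5 := by
    rw [orderOf_injective φ hφ]
    exact orderOf_eq_prime (Prod.ext (one_pow 5) c5_pow) fun h => c5_ne (congrArg Prod.snd h)
  rcases exists_125 (x := φ (c5, 1)) (x' := φ (1, c5)) (t := φ (c2, 1))
    (by rw [Cfsg.Agent.H647.SpF.HS.card]; norm_num) hx hx' (by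
      rw [← map_mul, ← map_mul]
      exact congrArg φ (Prod.ext ((mul_one _).trans (one_mul _).symm) ((one_mul _).trans (mul_one _).symm))) (by
      intro h
      obtain ⟨i, hi⟩ := mem_zpowers_iff.1 h
      rw [← map_zpow] at hi
      have := congrArg Prod.snd (hφ hi)
      have h2 : (1 : alternatingGroup (Fin 5)) ^ i = c5 := this
      rw [one_zpow] at h2
      exact c5_ne h2.symm) (by
      rw [← map_inv, ← map_mul, ← map_mul, ← map_inv]
      exact congrArg φ (Prod.ext c2_c5 (by show (1 : alternatingGroup (Fin 5)) * 1 * 1⁻¹ = 1⁻¹; group))) (by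
      rw [← map_inv, ← map_mul, ← map_mul]
      exact congrArg φ (Prod.ext (by show c2 * 1 * c2⁻¹ = 1; group) (by
        show (1 : alternatingGroup (Fin 5)) * c5 * 1⁻¹ = c5; group))) with h | h
  · exact not_hs_aux φ hφ h
  · let σ : alternatingGroup (Fin 5) × alternatingGroup (Fin 5) →* alternatingGroup (Fin 5) × alternatingGroup (Fin 5) :=
      (MonoidHom.snd _ _).prod (MonoidHom.fst _ _)
    have hσ : Function.Injective σ := fun a b hab => Prod.ext (congrArg Prod.snd hab) (congrArg Prod.fst hab)
    exact not_hs_aux (φ.comp σ) (hφ.comp hσ) h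

theorem noFac_hs (hk : Known.{0}) {T : Type} [Group T] (h : Spor.IsoHS T) : NoFac T := by
  intro S _ _ hS hSn A M l _ hF
  obtain ⟨φ, hφ⟩ := exists_alt hF hS (hs_sixty hk h hS hSn hF)
  obtain ⟨e⟩ := h
  exact not_hs (e.toMonoidHom.comp φ) (e.injective.comp hφ)

end Cfsg.Agent.H505.Fac
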