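import Cfsg.Agent.H505.Fac.HS
import Cfsg.Agent.H306.J2.Amb

/-!
# `NoFac J₂` (helper505, for S3679)

`A₅ × A₅` is not a subgroup of `J₂`: let `P = ⟨x, x'⟩` be the Sylow 5-subgroup. An element of order 3 of `N(P)` acts without
fixed points on `P`, so the number of elements `y ≠ 1` of `P` with `4 ∣ |C(y)|` is divisible by 3; this set contains `x`,
`x'`, is closed under powers and under `(i, j) ↦ (-i, j)`, hence it is everything. But `J₂` has elements of order 5 with
`4 ∤ |C(w)|`.
-/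

set_option autoImplicit false

namespace Cfsg.Agent.H505.Fac

open Subgroup Cfsg Cfsg.Agent.H899.CG Cfsg.Agent.H537.Cop

/-! ### combinatorics -/

theorem comb_aux1 : ∀ i j : ZMod 5, i ≠ 0 → j ≠ 0 → j = i ∨ j = -i ∨ j = 2 * i ∨ j = -(2 * i) := by decide

theorem comb_aux2 : ∀ i : ZMod 5, i ≠ 0 → i ≠ 2 * i ∧ i ≠ -(2 * i) ∧ -i ≠ 2 * i ∧ -i ≠ -(2 * i) ∧
    2 * i ≠ i ∧ 2 * i ≠ -i ∧ -(2 * i) ≠ i ∧ -(2 * i) ≠ -i := by decide

theorem comb (E : ZMod 5 → ZMod 5 → Prop) (hk : ∀ k i j : ZMod 5, k ≠ 0 → E i j → E (k * i) (k * j))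
    (hs : ∀ i j, E i j → E (-i) j) (h1 : E 1 0) (h2 : E 0 1)
    (h3 : 3 ∣ Nat.card {v : ZMod 5 × ZMod 5 // v ≠ 0 ∧ E v.1 v.2}) :
    ∀ v : ZMod 5 × ZMod 5, v ≠ 0 → E v.1 v.2 := by
  classical
  have kmul : ∀ {k i j : ZMod 5}, k ≠ 0 → (E (k * i) (k * j) ↔ E i j) := by
    intro k i j hk0
    refine ⟨fun h => ?_, hk k i j hk0⟩
    have h4 := hk k⁻¹ _ _ (inv_ne_zero hk0) h
    rwa [inv_mul_cancel_left₀ hk0, inv_mul_cancel_left₀ hk0] at h4
  have hss : ∀ {i j : ZMod 5}, E (-i) j ↔ E i j := fun {i j} =>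
    ⟨fun h => by have := hs _ _ h; rwa [neg_neg] at this, hs i j⟩
  have hneg : ∀ {i j : ZMod 5}, E i (-j) ↔ E i j := fun {i j} => by
    have h4 := kmul (k := -1) (i := i) (j := j) (by decide)
    rw [neg_one_mul, neg_one_mul, hss] at h4
    exact h4
  have a1 : ∀ i : ZMod 5, i ≠ 0 → (E i i ↔ E 1 1) := fun i hi => by
    have h4 := kmul (k := i) (i := 1) (j := 1) hi
    rwa [mul_one] at h4
  have a2 : ∀ i : ZMod 5, i ≠ 0 → (E i (2 * i) ↔ E 1 2) := fun i hi => by
    have h4 := kmul (k := i) (i := 1) (j := 2) hi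
    rwa [mul_one, mul_comm i 2] at h4
  have key : ∀ i j : ZMod 5, ((i, j) : ZMod 5 × ZMod 5) ≠ 0 → (E i j ↔ (i = 0 ∨ j = 0 ∨ ((j = i ∨ j = -i) ∧ E 1 1) ∨
      ((j = 2 * i ∨ j = -(2 * i)) ∧ E 1 2))) := by
    intro i j hij
    by_cases hi : i = 0
    · subst hi
      have hj : j ≠ 0 := fun h => hij (by rw [h]; rfl)
      refine iff_of_true ?_ (Or.inl rfl)
      have h4 := hk j 0 1 hj h2
      rwa [mul_zero, mul_one] at h4
    by_cases hj : j = 0
    · subst hj
      refine iff_of_true ?_ (Or.inr (Or.inl rfl))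
      have h4 := hk i 1 0 hi h1
      rwa [mul_zero, mul_one] at h4
    obtain ⟨n1, n2, n3, n4, n5, n6, n7, n8⟩ := comb_aux2 i hi
    rcases comb_aux1 i j hi hj with rfl | rfl | rfl | rfl
    · rw [a1 _ hi]
      simp [hi, n1, n2]
    · rw [hneg, a1 _ hi]
      simp [hi, n3, n4]
    · rw [a2 _ hi]
      simp only [hi, hj, n5, n6, false_or, true_or, true_and, false_and]
    · rw [hneg, a2 _ hi]
      simp only [hi, hj, n7, n8, false_or, or_true, true_and, false_and]
  have hcard : ∀ (p : ZMod 5 × ZMod 5 → Prop) [DecidablePred p], (∀ v, (v ≠ 0 ∧ E v.1 v.2) ↔ p v) →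
      3 ∣ (Finset.univ.filter p).card := by
    intro p _ hp
    have e1 : Nat.card {v : ZMod 5 × ZMod 5 // v ≠ 0 ∧ E v.1 v.2} = Nat.card {v // p v} :=
      Nat.card_congr (Equiv.subtypeEquivRight hp)
    rw [e1, Nat.card_eq_fintype_card, Fintype.card_subtype] at h3
    exact h3
  by_cases b1 : E 1 1
  · by_cases b2 : E 1 2
    · rintro ⟨i, j⟩ hv
      refine (key i j hv).2 ?_
      by_cases hi : i = 0
      · exact Or.inl hi
      by_cases hj : j = 0
      · exact Or.inr (Or.inl hj)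
      rcases comb_aux1 i j hi hj with h | h | h | h
      · exact Or.inr (Or.inr (Or.inl ⟨Or.inl h, b1⟩))
      · exact Or.inr (Or.inr (Or.inl ⟨Or.inr h, b1⟩))
      · exact Or.inr (Or.inr (Or.inr ⟨Or.inl h, b2⟩))
      · exact Or.inr (Or.inr (Or.inr ⟨Or.inr h, b2⟩))
    · exfalso
      have h4 := hcard (fun v => v ≠ 0 ∧ (v.1 = 0 ∨ v.2 = 0 ∨ v.2 = v.1 ∨ v.2 = -v.1)) (fun v => by
        refine and_congr_right fun hv => ?_
        rw [key v.1 v.2 hv]
        simp [b1, b2])
      revert h4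
      decide
  · by_cases b2 : E 1 2
    · exfalso
      have h4 := hcard (fun v => v ≠ 0 ∧ (v.1 = 0 ∨ v.2 = 0 ∨ v.2 = 2 * v.1 ∨ v.2 = -(2 * v.1))) (fun v => by
        refine and_congr_right fun hv => ?_
        rw [key v.1 v.2 hv]
        simp [b1, b2])
      revert h4
      decide
    · exfalso
      have h4 := hcard (fun v => v ≠ 0 ∧ (v.1 = 0 ∨ v.2 = 0)) (fun v => by
        refine and_congr_right fun hv => ?_
        rw [key v.1 v.2 hv]
        simp [b1, b2])
      revert h4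
      decide

/-! ### the group -/

/-- fixed points modulo `p` -/
theorem card_modEq' {α : Type*} [Finite α] (f : Equiv.Perm α) {p n : ℕ} (hp : p.Prime)
    (hf : f ^ p ^ n = 1) : Nat.card α ≡ Nat.card {x // f x = x} [MOD p] := by
  classical
  have : Fact p.Prime := ⟨hp⟩
  have := Fintype.ofFinite α
  let F : Function.End α := fun x => f x
  have h1 : F ^ p ^ n = 1 := by
    have h2 : ∀ k : ℕ, F ^ k = (fun x => (f ^ k) x : Function.End α) := by
      intro k
      induction k with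
      | zero => rfl
      | succ k ih => rw [pow_succ, ih, pow_succ]; rfl
    rw [h2, hf]; rfl
  have h3 := Equiv.Perm.card_fixedPoints_modEq (f := F) h1
  rw [← Nat.card_eq_fintype_card, ← Nat.card_eq_fintype_card] at h3
  exact h3

/-- an element of order 3 normalizing a self-centralizing group of order 25: invariant subsets of `P ∖ 1` -/
theorem three_dvd_card {T : Type*} [Group T] [Finite T] {P : Subgroup T} (hP : Nat.card P = 25)
    (hC : centralizer (P : Set T) = P) {s : T} (hs : orderOf s = 3) (hsP : s ∈ normalizer (P : Set T))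
    (E : T → Prop) (hE : ∀ y, E y → E (s * y * s⁻¹)) : 3 ∣ Nat.card {y : P // y ≠ 1 ∧ E y} := by
  have h3 : Nat.Prime 3 := Nat.prime_three
  have hs3 : s ^ 3 = 1 := by rw [← hs]; exact pow_orderOf_eq_one s
  have hm : ∀ y ∈ P, s * y * s⁻¹ ∈ P := fun y hy => (mem_normalizer_iff.1 hsP y).1 hy
  have hm' : ∀ y ∈ P, s⁻¹ * y * s ∈ P := fun y hy => by
    have := (mem_normalizer_iff.1 (inv_mem hsP) y).1 hy
    rwa [inv_inv] at this
  -- the permutation of `P`
  let f : Equiv.Perm P :=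
    { toFun := fun y => ⟨s * y * s⁻¹, hm y y.2⟩
      invFun := fun y => ⟨s⁻¹ * y * s, hm' y y.2⟩
      left_inv := fun y => Subtype.ext (by show s⁻¹ * (s * (y : T) * s⁻¹) * s = y; group)
      right_inv := fun y => Subtype.ext (by show s * (s⁻¹ * (y : T) * s) * s⁻¹ = y; group) }
  have hf : f ^ 3 ^ 1 = 1 := by
    ext y
    rw [pow_one, pow_succ, pow_two, Equiv.Perm.mul_apply, Equiv.Perm.mul_apply]
    show s * (s * (s * (y : T) * s⁻¹) * s⁻¹) * s⁻¹ = y
    have hs3' : s * s * s = 1 := by rw [← hs3, pow_succ, pow_two]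
    calc s * (s * (s * (y : T) * s⁻¹) * s⁻¹) * s⁻¹ = (s * s * s) * y * (s * s * s)⁻¹ := by group
      _ = y := by rw [hs3']; group
  have h1 := card_modEq' f h3 hf
  rw [hP] at h1
  -- the fixed points
  have h2 : Nat.card {y // f y = y} = Nat.card ((centralizer ({s} : Set T)).subgroupOf P) := by
    refine Nat.card_congr (Equiv.subtypeEquivRight fun y => ?_)
    show f y = y ↔ (y : T) ∈ centralizer ({s} : Set T)
    rw [mem_centralizer_singleton_iff]
    constructor
    · intro h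
      have h4 : s * (y : T) * s⁻¹ = y := congrArg Subtype.val h
      exact (mul_inv_eq_iff_eq_mul.1 h4).symm
    · intro h
      apply Subtype.ext
      show s * (y : T) * s⁻¹ = y
      rw [← h, mul_inv_cancel_right]
  rw [h2] at h1
  have h4 : Nat.card ((centralizer ({s} : Set T)).subgroupOf P) ∣ 25 := hP ▸ card_subgroup_dvd_card _
  have h5 : Nat.card ((centralizer ({s} : Set T)).subgroupOf P) = 1 := by
    have h6 : Nat.card ((centralizer ({s} : Set T)).subgroupOf P) ∈ Nat.divisors 25 :=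
      Nat.mem_divisors.2 ⟨h4, by norm_num⟩
    have h7 : Nat.divisors 25 = {1, 5, 25} := by decide +kernel
    rw [h7] at h6
    simp only [Finset.mem_insert, Finset.mem_singleton] at h6
    rcases h6 with h6 | h6 | h6
    · exact h6
    · rw [h6] at h1
      exact absurd h1 (by decide)
    · exfalso
      have h8 : (centralizer ({s} : Set T)).subgroupOf P = ⊤ := by
        apply Subgroup.eq_top_of_card_eq
        rw [h6, hP]
      have h9 : s ∈ P := by
        rw [← hC, mem_centralizer_iff]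
        intro y hy
        have h10 : (⟨y, hy⟩ : P) ∈ (centralizer ({s} : Set T)).subgroupOf P := by rw [h8]; trivial
        exact mem_centralizer_singleton_iff.1 (mem_subgroupOf.1 h10)
      have h10 := orderOf_dvd_natCard (⟨s, h9⟩ : P)
      rw [Subgroup.orderOf_mk, hs, hP] at h10
      norm_num at h10
  have hfix : ∀ y : P, f y = y → y = 1 := by
    intro y hy
    have h6 : Nat.card {y // f y = y} = 1 := h2.trans h5
    obtain ⟨hsub, -⟩ := Nat.card_eq_one_iff_unique.1 h6
    have h7 : f 1 = 1 := Subtype.ext (by show s * 1 * s⁻¹ = 1; group)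
    exact congrArg Subtype.val (@Subsingleton.elim _ hsub ⟨y, hy⟩ ⟨1, h7⟩)
  -- the restriction
  have hEf : ∀ y : P, (y ≠ 1 ∧ E y) ↔ (f y ≠ 1 ∧ E (f y)) := by
    have hE' : ∀ y : P, (y ≠ 1 ∧ E y) → (f y ≠ 1 ∧ E (f y)) := by
      rintro y ⟨h6, h7⟩
      refine ⟨fun h8 => h6 ?_, hE y h7⟩
      have h9 : f 1 = 1 := Subtype.ext (by show s * 1 * s⁻¹ = 1; group)
      exact f.injective (h8.trans h9.symm)
    intro y
    refine ⟨hE' y, fun h => ?_⟩
    have h6 := hE' _ (hE' _ h)
    have h7 : f (f (f y)) = y := by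
      have := congrArg (fun g : Equiv.Perm P => g y) hf
      simpa [pow_succ] using this
    rwa [h7] at h6
  let g : Equiv.Perm {y : P // y ≠ 1 ∧ E y} := f.subtypePerm fun y => (hEf y).symm
  have hg : g ^ 3 ^ 1 = 1 := by
    ext ⟨y, hy⟩
    have h7 : f (f (f y)) = y := by
      have := congrArg (fun g : Equiv.Perm P => g y) hf
      simpa [pow_succ] using this
    rw [pow_one, pow_succ, pow_two, Equiv.Perm.mul_apply, Equiv.Perm.mul_apply]
    show ((f (f (f y)) : P) : T) = y
    rw [h7]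
  have h6 := card_modEq' g h3 hg
  have h7 : Nat.card {y // g y = y} = 0 := by
    have : IsEmpty {y // g y = y} := ⟨fun ⟨⟨y, hy⟩, h⟩ => hy.1 (hfix y (congrArg Subtype.val h))⟩
    exact Nat.card_of_isEmpty
  rw [h7] at h6
  exact (Nat.modEq_zero_iff_dvd).1 h6

theorem neg_val : ∀ i : ZMod 5, 5 ∣ (-i).val + i.val := by decide

/-- `A₅ × A₅` is not a subgroup of `J₂` -/
theorem not_j2 {T : Type*} [Group T] [Finite T] (h : Spor.IsoJ2 T)
    (φ : alternatingGroup (Fin 5) × alternatingGroup (Fin 5) →* T) (hφ : Function.Injective φ) : False := by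
  obtain ⟨z, u, Q, v, ρ, D⟩ := Cfsg.Agent.KFacts.J2.Facts.exists_dat_of h
  have hG := Cfsg.Agent.J2Type.Order.card_of_fus D.F
  have h5 : Fact (Nat.Prime 5) := ⟨by norm_num⟩
  have h3 : Fact (Nat.Prime 3) := ⟨by norm_num⟩
  have hmk : ∀ a b c d : alternatingGroup (Fin 5), φ (a, b) * φ (c, d) = φ (a * c, b * d) := fun a b c d =>
    (map_mul φ (a, b) (c, d)).symm
  set x : T := φ (c5, 1) with hxdef
  set x' : T := φ (1, c5) with hxdef'
  have hx5 : x ^ 5 = 1 := by
    rw [hxdef, ← map_pow, ← map_one φ]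
    exact congrArg φ (Prod.ext c5_pow (one_pow 5))
  have hx5' : x' ^ 5 = 1 := by
    rw [hxdef', ← map_pow, ← map_one φ]
    exact congrArg φ (Prod.ext (one_pow 5) c5_pow)
  have hcc : Commute x x' := by
    show x * x' = x' * x
    rw [hxdef, hxdef', hmk, hmk, mul_one, one_mul]
  -- the subgroup `P`
  have hpow : ∀ i j : ZMod 5, x ^ i.val * x' ^ j.val = φ (c5 ^ i.val, c5 ^ j.val) := by
    intro i j
    rw [hxdef, hxdef', ← map_pow, ← map_pow, ← map_mul]
    exact congrArg φ (Prod.ext (by show c5 ^ i.val * 1 ^ j.val = _; rw [one_pow, mul_one])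
      (by show 1 ^ i.val * c5 ^ j.val = _; rw [one_pow, one_mul]))
  let ι : zpowers c5 × zpowers c5 →* alternatingGroup (Fin 5) × alternatingGroup (Fin 5) :=
    MonoidHom.prodMap (zpowers c5).subtype (zpowers c5).subtype
  have hι : Function.Injective ι := by
    rintro ⟨a, g⟩ ⟨b, h⟩ hab
    have h1 : (a : alternatingGroup (Fin 5)) = b := congrArg Prod.fst hab
    have h2 : (g : alternatingGroup (Fin 5)) = h := congrArg Prod.snd hab
    exact Prod.ext (Subtype.ext h1) (Subtype.ext h2)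
  have hφι : Function.Injective (φ.comp ι) := hφ.comp hι
  set P₀ : Subgroup T := (φ.comp ι).range with hP₀
  have hP₀c : Nat.card P₀ = 25 := by
    rw [hP₀, ← Nat.card_congr (MonoidHom.ofInjective hφι).toEquiv, Nat.card_prod, Nat.card_zpowers, orderOf_c5]
  have hfac : (Nat.card T).factorization 5 = 2 := by
    rw [hG, show (604800 : ℕ) = 5 ^ 2 * 24192 by norm_num, Nat.factorization_mul (by norm_num) (by norm_num),
      Finsupp.add_apply, Nat.Prime.factorization_pow h5.out, Finsupp.single_eq_same,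
      Nat.factorization_eq_zero_of_not_dvd (by norm_num)]
  let P : Sylow 5 T := Sylow.ofCard P₀ (by rw [hP₀c, hfac]; norm_num)
  have hPP : (P : Subgroup T) = P₀ := rfl
  obtain ⟨hC, -, hN, -⟩ := Cfsg.Agent.J2Type.FiveFus.sylow_five D.F P
  rw [hPP] at hC hN
  obtain ⟨⟨s, hsN⟩, hs⟩ := exists_prime_orderOf_dvd_card' (G := normalizer (P₀ : Set T)) 3 (by rw [hN]; norm_num)
  rw [Subgroup.orderOf_mk] at hs
  -- the indexing of `P`
  have hmemP : ∀ i j : ZMod 5, x ^ i.val * x' ^ j.val ∈ P₀ := by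
    intro i j
    rw [hpow]
    exact ⟨(⟨c5 ^ i.val, pow_mem (mem_zpowers c5) _⟩, ⟨c5 ^ j.val, pow_mem (mem_zpowers c5) _⟩), rfl⟩
  let F : ZMod 5 × ZMod 5 → P₀ := fun v => ⟨x ^ v.1.val * x' ^ v.2.val, hmemP v.1 v.2⟩
  have hFinj : Function.Injective F := by
    rintro ⟨i, j⟩ ⟨k, l⟩ hab
    have e1 : x ^ i.val * x' ^ j.val = x ^ k.val * x' ^ l.val := congrArg Subtype.val hab
    rw [hpow, hpow] at e1
    have e2 := hφ e1
    have e3 : c5 ^ i.val = c5 ^ k.val := congrArg Prod.fst e2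
    have e4 : c5 ^ j.val = c5 ^ l.val := congrArg Prod.snd e2
    rw [pow_inj_mod, orderOf_c5, Nat.mod_eq_of_lt (ZMod.val_lt i), Nat.mod_eq_of_lt (ZMod.val_lt k)] at e3
    rw [pow_inj_mod, orderOf_c5, Nat.mod_eq_of_lt (ZMod.val_lt j), Nat.mod_eq_of_lt (ZMod.val_lt l)] at e4
    exact Prod.ext (ZMod.val_injective 5 e3) (ZMod.val_injective 5 e4)
  have hFbij : Function.Bijective F := by
    rw [Nat.bijective_iff_injective_and_card]
    exact ⟨hFinj, by rw [hP₀c, Nat.card_prod, Nat.card_zmod]⟩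
  have hF0 : F 0 = 1 := Subtype.ext (by show x ^ 0 * x' ^ 0 = 1; rw [pow_zero, pow_zero, mul_one])
  -- the property
  let E' : T → Prop := fun y => 4 ∣ Nat.card (centralizer ({y} : Set T))
  let E : ZMod 5 → ZMod 5 → Prop := fun i j => E' (x ^ i.val * x' ^ j.val)
  have hE'c : ∀ g y, E' y → E' (g * y * g⁻¹) := fun g y hy => by
    show 4 ∣ Nat.card (centralizer ({g * y * g⁻¹} : Set T))
    rw [card_cent_conj]
    exact hy
  -- powers
  have hval : ∀ {y : T}, y ^ 5 = 1 → ∀ (k i : ZMod 5), y ^ (k * i).val = (y ^ i.val) ^ ((k.val : ℕ) : ℤ) := by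
    intro y hy k i
    rw [zpow_natCast, ← pow_mul, ZMod.val_mul, mul_comm i.val, pow_eq_pow_mod (k.val * i.val) hy]
  have hmain : ∀ v : ZMod 5 × ZMod 5, v ≠ 0 → E v.1 v.2 := by
    refine comb E ?_ ?_ ?_ ?_ ?_
    · intro k i j hk hij
      show E' (x ^ (k * i).val * x' ^ (k * j).val)
      rw [hval hx5, hval hx5', ← ((hcc.pow_left i.val).pow_right j.val).mul_zpow]
      show 4 ∣ Nat.card (centralizer ({(x ^ i.val * x' ^ j.val) ^ ((k.val : ℕ) : ℤ)} : Set T))
      rw [card_cent_zpow]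
      · exact hij
      · rw [((hcc.pow_left i.val).pow_right j.val).mul_pow, ← pow_mul, ← pow_mul, mul_comm i.val, mul_comm j.val,
          pow_mul, pow_mul, hx5, hx5', one_pow, one_pow, mul_one]
      · intro h
        have h1 : (5 : ℕ) ∣ k.val := by exact_mod_cast h
        have h2 := ZMod.val_lt k
        have h3 : k.val = 0 := by omega
        exact hk ((ZMod.val_eq_zero k).1 h3)
    · intro i j hij
      have h1 : x ^ (-i).val * x' ^ j.val = φ (c2, 1) * (x ^ i.val * x' ^ j.val) * (φ (c2, 1))⁻¹ := by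
        have e1 : φ (c2, 1) * x * (φ (c2, 1))⁻¹ = x⁻¹ := by
          rw [hxdef, ← map_inv, ← map_mul, ← map_mul, ← map_inv]
          exact congrArg φ (Prod.ext c2_c5 (by show (1 : alternatingGroup (Fin 5)) * 1 * 1⁻¹ = 1⁻¹; group))
        have e2 : φ (c2, 1) * x' * (φ (c2, 1))⁻¹ = x' := by
          rw [hxdef', ← map_inv, ← map_mul, ← map_mul]
          exact congrArg φ (Prod.ext (by show c2 * 1 * c2⁻¹ = 1; group) (by
            show (1 : alternatingGroup (Fin 5)) * c5 * 1⁻¹ = c5; group))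
        have e3 : φ (c2, 1) * (x ^ i.val * x' ^ j.val) * (φ (c2, 1))⁻¹ =
            (φ (c2, 1) * x * (φ (c2, 1))⁻¹) ^ i.val * (φ (c2, 1) * x' * (φ (c2, 1))⁻¹) ^ j.val := by
          rw [conj_pow, conj_pow]
          group
        rw [e3, e1, e2]
        congr 1
        rw [inv_pow, eq_inv_iff_mul_eq_one, ← pow_add]
        have e4 : 5 ∣ (-i).val + i.val := neg_val i
        obtain ⟨c, hc⟩ := e4
        rw [hc, pow_mul, hx5, one_pow]
      show E' (x ^ (-i).val * x' ^ j.val)
      rw [h1]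
      exact hE'c _ _ hij
    · -- `x`
      show 4 ∣ Nat.card (centralizer ({x ^ (1 : ZMod 5).val * x' ^ (0 : ZMod 5).val} : Set T))
      have e1 : x ^ (1 : ZMod 5).val * x' ^ (0 : ZMod 5).val = x := by
        show x ^ 1 * x' ^ 0 = x
        rw [pow_one, pow_zero, mul_one]
      rw [e1]
      let ψ : alternatingGroup (Fin 5) →* centralizer ({x} : Set T) :=
        (φ.comp (MonoidHom.inr _ _)).codRestrict _ fun g => by
          show φ (1, g) ∈ _
          rw [mem_centralizer_singleton_iff, hxdef, hmk, hmk]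
          simp
      have hψ : Function.Injective ψ := fun a b hab => congrArg Prod.snd (hφ (congrArg Subtype.val hab))
      have h1 := Subgroup.card_dvd_of_injective ψ hψ
      rw [card_a5] at h1
      exact dvd_trans (by norm_num) h1
    · show 4 ∣ Nat.card (centralizer ({x ^ (0 : ZMod 5).val * x' ^ (1 : ZMod 5).val} : Set T))
      have e1 : x ^ (0 : ZMod 5).val * x' ^ (1 : ZMod 5).val = x' := by
        show x ^ 0 * x' ^ 1 = x'
        rw [pow_one, pow_zero, one_mul]
      rw [e1]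
      let ψ : alternatingGroup (Fin 5) →* centralizer ({x'} : Set T) :=
        (φ.comp (MonoidHom.inl _ _)).codRestrict _ fun g => by
          show φ (g, 1) ∈ _
          rw [mem_centralizer_singleton_iff, hxdef', hmk, hmk]
          simp
      have hψ : Function.Injective ψ := fun a b hab => congrArg Prod.fst (hφ (congrArg Subtype.val hab))
      have h1 := Subgroup.card_dvd_of_injective ψ hψ
      rw [card_a5] at h1
      exact dvd_trans (by norm_num) h1
    · have h1 := three_dvd_card hP₀c hC hs hsN E' (hE'c s)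
      have h2 : Nat.card {v : ZMod 5 × ZMod 5 // v ≠ 0 ∧ E v.1 v.2} = Nat.card {y : P₀ // y ≠ 1 ∧ E' y} := by
        refine Nat.card_congr ((Equiv.ofBijective F hFbij).subtypeEquiv fun v => ?_)
        refine and_congr ?_ Iff.rfl
        rw [not_iff_not]
        constructor
        · rintro rfl
          exact hF0
        · intro h
          exact hFinj (h.trans hF0.symm)
      rw [h2]
      exact h1
  -- an element of order 5 commuting with `z`
  obtain ⟨⟨w, hwm⟩, hw⟩ := exists_prime_orderOf_dvd_card' (G := centralizer ({z} : Set T)) 5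
    (by rw [D.F.cardC]; norm_num)
  rw [Subgroup.orderOf_mk] at hw
  have hwz : w * z = z * w := mem_centralizer_singleton_iff.mp hwm
  have hnw := Cfsg.Agent.J2Type.FiveFus.not_four_dvd D.F hw hwz
  have hwp : IsPGroup 5 (zpowers w) := IsPGroup.of_card (n := 1) (by rw [Nat.card_zpowers, hw, pow_one])
  obtain ⟨R, hR⟩ := hwp.exists_le_sylow
  obtain ⟨g, hg⟩ := MulAction.exists_smul_eq T R P
  have hgw : g * w * g⁻¹ ∈ P₀ := by
    have h1 : g * w * g⁻¹ ∈ (g • R : Sylow 5 T) := by
      rw [Sylow.smul_def]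
      exact ⟨w, hR (mem_zpowers w), rfl⟩
    rw [hg] at h1
    exact h1
  obtain ⟨v, hv⟩ := hFbij.2 ⟨g * w * g⁻¹, hgw⟩
  have hv0 : v ≠ 0 := by
    rintro rfl
    rw [hF0] at hv
    have h1 : g * w * g⁻¹ = 1 := (congrArg Subtype.val hv).symm
    have h2 : w = 1 := by
      rw [mul_inv_eq_one] at h1
      exact mul_eq_left.1 h1
    rw [h2, orderOf_one] at hw
    norm_num at hw
  have h1 := hmain v hv0
  have h2 : x ^ v.1.val * x' ^ v.2.val = g * w * g⁻¹ := congrArg Subtype.val hv
  have h4 : 4 ∣ Nat.card (centralizer ({x ^ v.1.val * x' ^ v.2.val} : Set T)) := h1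
  rw [h2, card_cent_conj] at h4
  exact hnw h4

theorem noFac_j2 (hk : Known.{0}) {T : Type} [Group T] (h : Spor.IsoJ2 T) : NoFac T := by
  intro S _ _ hS hSn A M l _ hF
  have hc : Nat.card T = 604800 := NotCT.Orders.j2 h
  have : Finite T := Nat.finite_of_card_ne_zero (by rw [hc]; norm_num)
  obtain ⟨φ, hφ⟩ := exists_alt hF hS (j2_sixty hk h hS hSn hF)
  exact not_j2 h φ hφ

end Cfsg.Agent.H505.Fac
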