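import Cfsg.Agent.H505.Fac.RowsA
import Cfsg.Agent.S0494

/-!
# `NoFac McL` (helper505, for S3679)

`A₅ × A₅` is not a subgroup of `McL`: for commuting involutions `t`, `s` of the first factor and `x` of order 5 in the
second one, the images of `s` and `x` in `C(t) / ⟨t⟩ ≅ A₈` commute.
-/

set_option autoImplicit false

namespace Cfsg.Agent.H505.Fac

open Subgroup Cfsg Cfsg.Agent.H899.CG Cfsg.Agent.H537.Cop Cfsg.Agent.TypeM.Two Cfsg.Agent.SporRec.TwoAn
open Equiv

/-! ### elements of `A₅` -/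

/-- an element of order 5 -/
def c5 : alternatingGroup (Fin 5) := ⟨c[0, 1, 2, 3, 4], Equiv.Perm.mem_alternatingGroup.2 (by decide)⟩

/-- an involution inverting `c5` -/
def c2 : alternatingGroup (Fin 5) := ⟨c[1, 4] * c[2, 3], Equiv.Perm.mem_alternatingGroup.2 (by decide)⟩

/-- an involution commuting with `c2` -/
def c2' : alternatingGroup (Fin 5) := ⟨c[1, 2] * c[3, 4], Equiv.Perm.mem_alternatingGroup.2 (by decide)⟩

theorem c5_pow : c5 ^ 5 = 1 := by decide +kernel
theorem c5_ne : c5 ≠ 1 := by decide +kernel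
theorem c2_mul : c2 * c2 = 1 := by decide +kernel
theorem c2_ne : c2 ≠ 1 := by decide +kernel
theorem c2'_mul : c2' * c2' = 1 := by decide +kernel
theorem c2'_ne : c2' ≠ 1 := by decide +kernel
theorem c2'_ne' : c2' ≠ c2 := by decide +kernel
theorem c2_comm : c2 * c2' = c2' * c2 := by decide +kernel
theorem c2_c5 : c2 * c5 * c2⁻¹ = c5⁻¹ := by decide +kernel

theorem orderOf_c5 : orderOf c5 = 5 := by
  have : Fact (Nat.Prime 5) := ⟨by norm_num⟩
  exact orderOf_eq_prime c5_pow c5_ne

theorem orderOf_c2 : orderOf c2 = 2 := by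
  have : Fact (Nat.Prime 2) := ⟨by norm_num⟩
  exact orderOf_eq_prime (by rw [pow_two]; exact c2_mul) c2_ne

/-- two copies of `A₅` -/
theorem exists_alt {T : Type*} [Group T] {A B : Subgroup T} {S : Type*} [Group S] [Finite S] {k : ℕ}
    (h : Fac T A B S k) (hS : IsSimpleGroup S) (h60 : Nat.card S = 60) :
    ∃ φ : alternatingGroup (Fin 5) × alternatingGroup (Fin 5) →* T, Function.Injective φ := by
  obtain ⟨φ, hφ, -⟩ := h.exists_hom
  obtain ⟨e⟩ := Cfsg.Agent.S0494.result (G := S) h60
  exact ⟨φ.comp (MulEquiv.prodCongr e.symm e.symm).toMonoidHom, hφ.comp (MulEquiv.prodCongr e.symm e.symm).injective⟩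

/-- An even involution of `S_8` does not commute with a group of order divisible by five. -/
theorem not_five (r : Perm (Fin 8)) (hs : Equiv.Perm.sign r = 1) (hr : orderOf r = 2) :
    ¬ 5 ∣ Nat.card (centralizer ({r} : Set (Perm (Fin 8)))) := by
  obtain ⟨n, hn⟩ := Equiv.Perm.cycleType_prime_order (σ := r) (by rw [hr]; exact Nat.prime_two)
  rw [hr] at hn
  have h1 := Equiv.Perm.sign_of_cycleType r
  have h2 := Equiv.Perm.sum_cycleType_le r
  rw [hs, hn] at h1
  rw [hn, Fintype.card_fin, Multiset.sum_replicate] at h2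
  rw [Multiset.sum_replicate, Multiset.card_replicate] at h1
  have h3 : n + 1 ≤ 4 := by
    simp only [smul_eq_mul] at h2
    omega
  have h4 : n = 1 ∨ n = 3 := by
    have h5 : n < 4 := by omega
    interval_cases n
    · exfalso; revert h1; decide
    · exact Or.inl rfl
    · exfalso; revert h1; decide
    · exact Or.inr rfl
  rw [Equiv.Perm.nat_card_centralizer, hn, Fintype.card_fin]
  rcases h4 with rfl | rfl
  · simp
    decide
  · simp
    decide

theorem not_mcl (φ : alternatingGroup (Fin 5) × alternatingGroup (Fin 5) →* Spor.McL)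
    (hφ : Function.Injective φ) : False := by
  obtain ⟨hfin, -, -, ⟨L⟩⟩ := Cfsg.Agent.H848.McLLocal.facts
  have h5 : Fact (Nat.Prime 5) := ⟨by norm_num⟩
  have h2 : Fact (Nat.Prime 2) := ⟨by norm_num⟩
  have ht : orderOf (φ (c2, 1)) = 2 := by
    rw [orderOf_injective φ hφ]
    exact orderOf_eq_prime (by rw [pow_two]; exact Prod.ext c2_mul (one_mul 1)) fun h => c2_ne (congrArg Prod.fst h)
  obtain ⟨h3, h4⟩ := MT.sq_of_orderOf ht
  obtain ⟨L', hL'⟩ := L.exists_rebase h3 h4
  have hsm : φ (c2', 1) ∈ centralizer ({L'.t} : Set Spor.McL) := by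
    rw [mem_centralizer_singleton_iff, hL', ← map_mul, ← map_mul]
    exact congrArg φ (Prod.ext c2_comm.symm rfl)
  have hxm : φ (1, c5) ∈ centralizer ({L'.t} : Set Spor.McL) := by
    rw [mem_centralizer_singleton_iff, hL', ← map_mul, ← map_mul]
    exact congrArg φ (Prod.ext ((one_mul _).trans (mul_one _).symm) ((mul_one _).trans (one_mul _).symm))
  set r : Perm (Fin 8) := L'.K.π ⟨φ (c2', 1), hsm⟩ with hr
  set f : Perm (Fin 8) := L'.K.π ⟨φ (1, c5), hxm⟩ with hf
  have hr1 : r ≠ 1 := by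
    intro h
    rcases (L'.K.ker _).1 h with h | h
    · have e1 : φ (c2', 1) = φ (1, 1) := (congrArg Subtype.val h).trans (map_one φ).symm
      exact c2'_ne (congrArg Prod.fst (hφ e1))
    · have e1 : φ (c2', 1) = φ (c2, 1) := by
        rw [← hL', ← L'.hz]
        exact congrArg Subtype.val h
      exact c2'_ne' (congrArg Prod.fst (hφ e1))
  have hf1 : f ≠ 1 := by
    intro h
    rcases (L'.K.ker _).1 h with h | h
    · have e1 : φ (1, c5) = φ (1, 1) := (congrArg Subtype.val h).trans (map_one φ).symm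
      exact c5_ne (congrArg Prod.snd (hφ e1))
    · have e1 : φ (1, c5) = φ (c2, 1) := by
        rw [← hL', ← L'.hz]
        exact congrArg Subtype.val h
      exact c2_ne (congrArg Prod.fst (hφ e1)).symm
  have hr2 : orderOf r = 2 := by
    refine orderOf_eq_prime ?_ hr1
    rw [hr, ← map_pow]
    have : (⟨φ (c2', 1), hsm⟩ : centralizer ({L'.t} : Set Spor.McL)) ^ 2 = 1 := by
      apply Subtype.ext
      show φ (c2', 1) ^ 2 = 1
      rw [← map_pow, ← map_one φ]
      exact congrArg φ (Prod.ext (by show c2' ^ 2 = 1; rw [pow_two]; exact c2'_mul) (one_pow 2))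
    rw [this, map_one]
  have hf5 : orderOf f = 5 := by
    refine orderOf_eq_prime ?_ hf1
    rw [hf, ← map_pow]
    have : (⟨φ (1, c5), hxm⟩ : centralizer ({L'.t} : Set Spor.McL)) ^ 5 = 1 := by
      apply Subtype.ext
      show φ (1, c5) ^ 5 = 1
      rw [← map_pow, ← map_one φ]
      exact congrArg φ (Prod.ext (one_pow 5) c5_pow)
    rw [this, map_one]
  have hsg : Equiv.Perm.sign r = 1 := by
    have : r ∈ L'.K.π.range := ⟨_, rfl⟩
    rw [L'.K.range_eq] at this
    exact Equiv.Perm.mem_alternatingGroup.1 this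
  refine not_five r hsg hr2 ?_
  have hfr : f ∈ centralizer ({r} : Set (Perm (Fin 8))) := by
    rw [mem_centralizer_singleton_iff, hf, hr, ← map_mul, ← map_mul]
    congr 1
    apply Subtype.ext
    show φ (1, c5) * φ (c2', 1) = φ (c2', 1) * φ (1, c5)
    rw [← map_mul, ← map_mul]
    exact congrArg φ (Prod.ext ((one_mul _).trans (mul_one _).symm) ((mul_one _).trans (one_mul _).symm))
  have := orderOf_dvd_natCard (⟨f, hfr⟩ : centralizer ({r} : Set (Perm (Fin 8))))
  rwa [Subgroup.orderOf_mk, hf5] at this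

theorem noFac_mcl (hk : Known.{0}) {T : Type} [Group T] (h : Spor.IsoMcL T) : NoFac T := by
  intro S _ _ hS hSn A M l _ hF
  obtain ⟨φ, hφ⟩ := exists_alt hF hS (mcl_sixty hk h hS hSn hF)
  obtain ⟨e⟩ := h
  exact not_mcl (e.toMonoidHom.comp φ) (e.injective.comp hφ)

end Cfsg.Agent.H505.Fac
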