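import Cfsg.Agent.H505.Fac.Gen
import Cfsg.Agent.H537.CopRowsA
import Cfsg.Agent.H537.CopHeEl
import Cfsg.Agent.H410.CopTits
import Cfsg.Agent.H868.CopHe
import Cfsg.Agent.H149.Sp.CopCoMain
import Cfsg.Agent.H604.Cop.Conway
import Cfsg.Agent.H647.SpF.HSMcL

/-!
# `NoFac T` for the Tits group, `He`, `Co₂`, `Co₃` (helper505, for S3679)

`mcl_sixty` : the only possible factors of `McL` are `S × S`, `|S| = 60`.
-/

set_option autoImplicit false
set_option maxRecDepth 100000

namespace Cfsg.Agent.H505.Fac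

open Subgroup Cfsg Cfsg.Agent.H899.CG Cfsg.Agent.H537.Cop Cfsg.Agent.OrdDiv Cfsg.Agent.H393.Sp

/-! ### The Tits group -/

theorem chk_tits : chkF 17971200 [(2, 11), (3, 3), (5, 2), (13, 1)] [] [(5, 2, 1)] [] = true := by decide +kernel

theorem noFac_tits (hk : Known.{0}) {T : Type} [Group T] (h : Lie.IsoTits T) : NoFac T := by
  have hc : Nat.card T = 17971200 := NotCT.Orders.tits h
  have : Finite T := Nat.finite_of_card_ne_zero (by rw [hc]; norm_num)
  refine noFac_of_chk hk hc valid_tits (by decide) (fun p hp => absurd hp List.not_mem_nil) rfl ?_ chk_tits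
  simp only [List.mem_cons, List.not_mem_nil, or_false]
  rintro t rfl
  exact ⟨by norm_num, Cfsg.Agent.H410.CopTits.cb_five_two h⟩

/-! ### `He` -/

theorem chk_he : chkF 4030387200 [(2, 10), (3, 3), (5, 2), (7, 3), (17, 1)] [17] [(7, 2, 3)] [] = true := by
  decide +kernel

theorem noFac_he (hk : Known.{0}) {T : Type} [Group T] (h : Spor.IsoHe T) : NoFac T := by
  have hc : Nat.card T = 4030387200 := NotCT.Orders.he h
  have : Finite T := Nat.finite_of_card_ne_zero (by rw [hc]; norm_num)
  obtain ⟨e⟩ := h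
  refine noFac_of_chk hk hc valid_he (by decide) ?_ (by decide) ?_ chk_he
  · simp only [List.mem_cons, List.not_mem_nil, or_false]
    rintro q rfl
    exact ⟨by norm_num, SC.congr e he_17⟩
  · simp only [List.mem_cons, List.not_mem_nil, or_false]
    rintro t rfl
    exact ⟨by norm_num, CB.congr e Cfsg.Agent.H868.CopHe.cb_seven_two⟩

/-! ### `Co₂` -/

theorem chk_co2 : chkF 42305421312000 [(2, 18), (3, 6), (5, 3), (7, 1), (11, 1), (23, 1)] [23]
    [(3, 5, 1), (5, 3, 1)] [] = true := by decide +kernel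

theorem noFac_co2 (hk : Known.{0}) {T : Type} [Group T] (h : Spor.IsoCo2 T) : NoFac T := by
  have hc : Nat.card T = 42305421312000 := NotCT.Orders.co2 h
  have : Finite T := Nat.finite_of_card_ne_zero (by rw [hc]; norm_num)
  obtain ⟨e⟩ := h
  refine noFac_of_chk hk hc valid_co2 (by decide) ?_ (by decide) ?_ chk_co2
  · simp only [List.mem_cons, List.not_mem_nil, or_false]
    rintro q rfl
    exact ⟨by norm_num, SC.congr e Cfsg.Agent.H604.Cop.Conway.self_co2⟩
  · simp only [List.mem_cons, List.not_mem_nil, or_false]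
    rintro t (rfl | rfl)
    · exact ⟨by norm_num, CB.congr e Cfsg.Agent.H149.Sp.CopCo.co2_3_5⟩
    · exact ⟨by norm_num, CB.congr e Cfsg.Agent.H149.Sp.CopCo.co2_5_3⟩

/-! ### `Co₃` -/

theorem chk_co3 : chkF 495766656000 [(2, 10), (3, 7), (5, 3), (7, 1), (11, 1), (23, 1)] [23]
    [(3, 5, 1), (5, 3, 1)] [] = true := by decide +kernel

theorem noFac_co3 (hk : Known.{0}) {T : Type} [Group T] (h : Spor.IsoCo3 T) : NoFac T := by
  have hc : Nat.card T = 495766656000 := NotCT.Orders.co3 h
  have : Finite T := Nat.finite_of_card_ne_zero (by rw [hc]; norm_num)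
  obtain ⟨e⟩ := h
  refine noFac_of_chk hk hc valid_co3 (by decide) ?_ (by decide) ?_ chk_co3
  · simp only [List.mem_cons, List.not_mem_nil, or_false]
    rintro q rfl
    exact ⟨by norm_num, SC.congr e Cfsg.Agent.H604.Cop.Conway.self_co3⟩
  · simp only [List.mem_cons, List.not_mem_nil, or_false]
    rintro t (rfl | rfl)
    · exact ⟨by norm_num, CB.congr e Cfsg.Agent.H149.Sp.CopCo.co3_3_5⟩
    · exact ⟨by norm_num, CB.congr e Cfsg.Agent.H149.Sp.CopCo.co3_5_3⟩

/-! ### `McL`, `HS`, `J₂`: reduction to `|S| = 60`, `l = 2` -/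

theorem chk_mcl : chkF 898128000 [(2, 7), (3, 6), (5, 3), (7, 1), (11, 1)] [] [(3, 5, 1), (5, 3, 1)]
    [(60, 2)] = true := by decide +kernel

theorem mcl_sixty (hk : Known.{0}) {T : Type} [Group T] (h : Spor.IsoMcL T) {S : Type} [Group S] [Finite S]
    (hS : IsSimpleGroup S) (hSn : ¬ IsMulCommutative S) {A B : Subgroup T} {k : ℕ} (hF : Fac T A B S k) :
    Nat.card S = 60 := by
  have hc : Nat.card T = 898128000 := NotCT.Orders.mcl h
  have : Finite T := Nat.finite_of_card_ne_zero (by rw [hc]; norm_num)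
  obtain ⟨e⟩ := h
  have h1 := mem_of_chk hk hc valid_mcl (by decide) (fun p hp => absurd hp List.not_mem_nil) rfl ?_ chk_mcl hS hSn hF
  · simp only [List.mem_cons, List.not_mem_nil, or_false, Prod.mk.injEq] at h1
    exact h1.1
  · simp only [List.mem_cons, List.not_mem_nil, or_false]
    rintro t (rfl | rfl)
    · exact ⟨by norm_num, CB.congr e Cfsg.Agent.H647.SpF.McL.cb_three_five'⟩
    · exact ⟨by norm_num, CB.congr e Cfsg.Agent.H647.SpF.McL.cb_five_three⟩

theorem chk_hs : chkF 44352000 [(2, 9), (3, 2), (5, 3), (7, 1), (11, 1)] [] [] [(60, 2)] = true := by decide +kernel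

theorem hs_sixty (hk : Known.{0}) {T : Type} [Group T] (h : Spor.IsoHS T) {S : Type} [Group S] [Finite S]
    (hS : IsSimpleGroup S) (hSn : ¬ IsMulCommutative S) {A B : Subgroup T} {k : ℕ} (hF : Fac T A B S k) :
    Nat.card S = 60 := by
  have hc : Nat.card T = 44352000 := NotCT.Orders.hs h
  have : Finite T := Nat.finite_of_card_ne_zero (by rw [hc]; norm_num)
  have h1 := mem_of_chk hk hc valid_hs (by decide) (fun p hp => absurd hp List.not_mem_nil) rfl
    (fun p hp => absurd hp List.not_mem_nil) chk_hs hS hSn hF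
  simp only [List.mem_cons, List.not_mem_nil, or_false, Prod.mk.injEq] at h1
  exact h1.1

theorem chk_j2 : chkF 604800 [(2, 7), (3, 3), (5, 2), (7, 1)] [] [] [(60, 2)] = true := by decide +kernel

theorem j2_sixty (hk : Known.{0}) {T : Type} [Group T] (h : Spor.IsoJ2 T) {S : Type} [Group S] [Finite S]
    (hS : IsSimpleGroup S) (hSn : ¬ IsMulCommutative S) {A B : Subgroup T} {k : ℕ} (hF : Fac T A B S k) :
    Nat.card S = 60 := by
  have hc : Nat.card T = 604800 := NotCT.Orders.j2 h
  have : Finite T := Nat.finite_of_card_ne_zero (by rw [hc]; norm_num)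
  have h1 := mem_of_chk hk hc valid_j2 (by decide) (fun p hp => absurd hp List.not_mem_nil) rfl
    (fun p hp => absurd hp List.not_mem_nil) chk_j2 hS hSn hF
  simp only [List.mem_cons, List.not_mem_nil, or_false, Prod.mk.injEq] at h1
  exact h1.1

end Cfsg.Agent.H505.Fac
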